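import Groth.Agent.SplitCoverLib.Main

/-! # Splitting covers of degree `n!` -/

set_option autoImplicit false
set_option linter.style.haveILetI false

universe u

open CategoryTheory CategoryTheory.Limits AlgebraicGeometry TopologicalSpace

namespace SplitDeg

open SplitCover

theorem finite_of_finite_spec {Ω : Type u} [Field Ω] {Z : Scheme.{u}} (p : Z ⟶ Spec (CommRingCat.of Ω)) [IsFinite p] :
    DiscreteTopology Z ∧ Finite Z := by
  haveI : IsLocallyArtinian (Spec (CommRingCat.of Ω)) :=
    Scheme.isLocallyArtinianScheme_Spec.mpr (inferInstanceAs (IsArtinianRing Ω))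
  haveI : IsLocallyArtinian Z := IsLocallyArtinian.of_locallyQuasiFinite p
  haveI : DiscreteTopology Z := inferInstance
  haveI : CompactSpace Z := QuasiCompact.compactSpace_of_compactSpace p
  exact ⟨inferInstance, finite_of_compact_of_discrete⟩

/-- Ranks multiply in composites of finite etale morphisms of constant rank. -/
theorem finrank_comp_const {V X S : Scheme.{u}} (ψ₀ : V ⟶ X) (φ : X ⟶ S) [IsFinite ψ₀] [Etale ψ₀]
    [IsFinite φ] [Etale φ] (a b : ℕ) (hψ : ∀ x, ψ₀.finrank x = a) (hφ : ∀ s, φ.finrank s = b) (s : S) :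
    (ψ₀ ≫ φ).finrank s = b * a := by
  obtain ⟨Ω, _, _, g, hg⟩ := exists_geom s
  haveI : IsSepClosed Ω := inferInstance
  let t : Spec (CommRingCat.of Ω) := (⟨⊥, Ideal.isPrime_bot⟩ : PrimeSpectrum Ω)
  let q := pullback.snd φ g
  let h := pullback.snd ψ₀ (pullback.fst φ g)
  rw [← hg t, finrank_eq_card_fibre (ψ₀ ≫ φ) g t,
    ← Nat.card_congr (pullbackRightPullbackFstIso φ g ψ₀).hom.homeomorph.toEquiv]
  haveI : IsFinite q := inferInstance
  haveI : IsFinite h := inferInstance
  haveI : Etale h := inferInstance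
  obtain ⟨hd, hfin⟩ := finite_of_finite_spec q
  haveI := (finite_of_finite_spec (h ≫ q)).2
  have hb : Nat.card ↥(pullback φ g) = b := by rw [← finrank_eq_card_fibre φ g t, hφ]
  have hz : ∀ z, Nat.card {w // h w = z} = a := by
    intro z
    let pt := pointOfClosedPoint q z (isClosed_discrete _)
    haveI : IsClosedImmersion pt := isClosedImmersion_of_comp_eq_id q pt (pointOfClosedPoint_comp q z _)
    have hc : Nat.card ↥(pullback h pt) = a := by
      rw [← finrank_eq_card_fibre h pt t, Scheme.Hom.finrank_pullback_snd, hψ]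
    rw [← hc]
    refine (Nat.card_congr ((Equiv.ofInjective _ (pullback.fst h pt).isEmbedding.injective).trans
      (Equiv.setCongr ?_))).symm
    rw [Scheme.Pullback.range_fst]
    ext w
    constructor
    · rintro ⟨u, hu⟩
      exact hu.symm.trans (pointOfClosedPoint_apply q z _ u)
    · intro hw
      exact ⟨t, (pointOfClosedPoint_apply q z _ t).trans hw.symm⟩
  haveI := Fintype.ofFinite ↥(pullback φ g)
  rw [← Nat.card_congr (Equiv.sigmaFiberEquiv (h : ↥(pullback ψ₀ (pullback.fst φ g)) → ↥(pullback φ g))),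
    Nat.card_sigma, Finset.sum_congr rfl (fun z _ => hz z), Finset.sum_const, Finset.card_univ,
    ← Nat.card_eq_fintype_card, hb, smul_eq_mul]

/-- A finite etale morphism of constant rank acquires that many disjoint covering sections after a finite
locally free surjective base change. -/
theorem exists_sections_deg : ∀ (n : ℕ) {X S : Scheme.{u}} (φ : X ⟶ S) [IsFinite φ] [Etale φ],
    (∀ s, φ.finrank s = n) →
    ∃ (Y : Scheme.{u}) (ψ : Y ⟶ S) (σ : Fin n → (Y ⟶ pullback φ ψ)),
      IsFinite ψ ∧ Etale ψ ∧ (∀ s, ψ.finrank s = n.factorial) ∧ Surjective ψ ∧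
      (∀ i, σ i ≫ pullback.snd φ ψ = 𝟙 Y) ∧ (∀ i j a b, σ i a = σ j b → i = j) ∧
      ∀ z, ∃ i, z ∈ Set.range (σ i) := by
  intro n
  induction n with
  | zero =>
    intro X S φ _ _ hn
    refine ⟨S, 𝟙 S, fun i => i.elim0, inferInstance, inferInstance, fun s => by simp [Scheme.Hom.finrank_eq_one_of_isIso],
      inferInstance, fun i => i.elim0,
      fun i => i.elim0, fun z => ?_⟩
    have h := Scheme.Hom.one_le_finrank_map φ (pullback.fst φ (𝟙 S) z)
    rw [hn] at h
    omega
  | succ k ih =>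
    intro X S φ _ _ hn
    let pr₁ := pullback.fst φ φ
    let pr₂ := pullback.snd φ φ
    let Δ := pullback.diagonal φ
    haveI : IsOpenImmersion Δ := inferInstance
    haveI : IsClosedImmersion Δ := inferInstance
    let U : (pullback φ φ : Scheme.{u}).Opens := ⟨(Set.range Δ)ᶜ, Δ.isClosedEmbedding.isClosed_range.isOpen_compl⟩
    haveI : IsClosedImmersion U.ι := IsClosedImmersion.of_isPreimmersion _ (by
      rw [Scheme.Opens.range_ι]
      exact (Δ.isOpenEmbedding.isOpen_range).isClosed_compl)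
    let φU := U.ι ≫ pr₂
    haveI : IsFinite φU := inferInstance
    haveI : Etale φU := inferInstance
    have hU : ∀ x, φU.finrank x = k := by
      intro x
      obtain ⟨Ω, _, _, g, hg⟩ := exists_geom x
      haveI : IsSepClosed Ω := inferInstance
      let t : Spec (CommRingCat.of Ω) := (⟨⊥, Ideal.isPrime_bot⟩ : PrimeSpectrum Ω)
      haveI : IsFinite pr₂ := inferInstance
      haveI : Etale pr₂ := inferInstance
      haveI : Etale (Δ ≫ pr₂) := inferInstance
      haveI : IsFinite (Δ ≫ pr₂) := inferInstance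
      have hZ : Nat.card ↥(pullback pr₂ g) = k + 1 := by
        rw [← finrank_eq_card_fibre pr₂ g t, Scheme.Hom.finrank_pullback_snd, hn]
      haveI : Finite ↥(pullback pr₂ g) := Nat.finite_of_card_ne_zero (by omega)
      have hΔ : Nat.card ↥(pullback (Δ ≫ pr₂) g) = 1 := by
        haveI : IsIso (Δ ≫ pr₂) := by
          rw [show Δ ≫ pr₂ = 𝟙 X from pullback.diagonal_snd φ]; infer_instance
        rw [← finrank_eq_card_fibre (Δ ≫ pr₂) g t, Scheme.Hom.finrank_eq_one_of_isIso]
        rfl
      have hU' : φU.finrank x = Nat.card ↥(pullback (U.ι ≫ pr₂) g) := by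
        rw [← finrank_eq_card_fibre φU g t, hg]
      rw [card_pullback_comp] at hΔ hU'
      rw [Scheme.Opens.range_ι] at hU'
      classical
      haveI := Fintype.ofFinite ↥(pullback pr₂ g)
      have hsplit := Fintype.card_subtype_compl fun z : ↥(pullback pr₂ g) => pullback.fst pr₂ g z ∈ Set.range Δ
      simp only [Nat.card_eq_fintype_card] at hZ hΔ
      rw [hU', ← Fintype.card_eq_nat_card]
      exact hsplit.trans (by rw [hZ, hΔ]; rfl)
    obtain ⟨V, ψ₀, σ₀, h1, h2, h3, h4, hs, hd, hc⟩ := ih φU hU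
    have hφ : Surjective φ := Scheme.Hom.one_le_finrank_iff_surjective φ |>.mp fun s => by
      show 1 ≤ φ.finrank s
      rw [hn]; omega
    let ψ := ψ₀ ≫ φ
    let p : pullback φ ψ ⟶ pullback φ φ :=
      pullback.lift (pullback.fst φ ψ) (pullback.snd φ ψ ≫ ψ₀) (by rw [Category.assoc]; exact pullback.condition)
    let h : pullback φU ψ₀ ⟶ pullback φ ψ :=
      pullback.lift (pullback.fst φU ψ₀ ≫ U.ι ≫ pr₁) (pullback.snd φU ψ₀) (by
        simp only [ψ, Category.assoc]
        rw [← reassoc_of% (pullback.condition (f := φU) (g := ψ₀))]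
        simp only [φU, pr₁, pr₂, Category.assoc, pullback.condition])
    have hp1 : p ≫ pr₁ = pullback.fst φ ψ := pullback.lift_fst _ _ _
    have hp2 : p ≫ pr₂ = pullback.snd φ ψ ≫ ψ₀ := pullback.lift_snd _ _ _
    have hh1 : h ≫ pullback.fst φ ψ = pullback.fst φU ψ₀ ≫ U.ι ≫ pr₁ := pullback.lift_fst _ _ _
    have hh2 : h ≫ pullback.snd φ ψ = pullback.snd φU ψ₀ := pullback.lift_snd _ _ _
    have hp : h ≫ p = pullback.fst φU ψ₀ ≫ U.ι := by
      apply pullback.hom_ext
      · show (h ≫ p) ≫ pr₁ = (pullback.fst φU ψ₀ ≫ U.ι) ≫ pr₁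
        rw [Category.assoc, hp1, hh1, Category.assoc]
      · show (h ≫ p) ≫ pr₂ = (pullback.fst φU ψ₀ ≫ U.ι) ≫ pr₂
        rw [Category.assoc, hp2, ← Category.assoc, hh2, Category.assoc]
        exact (pullback.condition (f := φU) (g := ψ₀)).symm
    let k₁ : pullback U.ι p ⟶ pullback φU ψ₀ :=
      pullback.lift (pullback.fst U.ι p) (pullback.snd U.ι p ≫ pullback.snd φ ψ) (by
        show pullback.fst U.ι p ≫ U.ι ≫ pr₂ = (pullback.snd U.ι p ≫ pullback.snd φ ψ) ≫ ψ₀
        rw [pullback.condition_assoc, hp2, Category.assoc])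
    have hk1 : k₁ ≫ pullback.fst φU ψ₀ = pullback.fst U.ι p := pullback.lift_fst _ _ _
    have hk2 : k₁ ≫ pullback.snd φU ψ₀ = pullback.snd U.ι p ≫ pullback.snd φ ψ := pullback.lift_snd _ _ _
    let l : pullback φU ψ₀ ⟶ pullback U.ι p := pullback.lift (pullback.fst φU ψ₀) h hp.symm
    have hl1 : l ≫ pullback.fst U.ι p = pullback.fst φU ψ₀ := pullback.lift_fst _ _ _
    have hl2 : l ≫ pullback.snd U.ι p = h := pullback.lift_snd _ _ _
    have hk : k₁ ≫ h = pullback.snd U.ι p := by
      apply pullback.hom_ext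
      · rw [Category.assoc, hh1, ← Category.assoc, hk1, pullback.condition_assoc, hp1]
      · rw [Category.assoc, hh2, hk2]
    have hl : l ≫ k₁ = 𝟙 _ := by
      apply pullback.hom_ext
      · rw [Category.assoc, hk1, hl1, Category.id_comp]
      · rw [Category.assoc, hk2, ← Category.assoc, hl2, hh2, Category.id_comp]
    have hinj : Function.Injective h := by
      haveI : IsOpenImmersion (pullback.snd U.ι p) := inferInstance
      intro a b hab
      rw [← hl2, Scheme.Hom.comp_apply, Scheme.Hom.comp_apply] at hab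
      have h' := congrArg k₁ ((pullback.snd U.ι p).isOpenEmbedding.injective hab)
      rwa [← Scheme.Hom.comp_apply, ← Scheme.Hom.comp_apply, hl] at h'
    let σz : V ⟶ pullback φ ψ := pullback.lift ψ₀ (𝟙 V) (by simp [ψ])
    have hz1 : σz ≫ pullback.fst φ ψ = ψ₀ := pullback.lift_fst _ _ _
    have hz2 : σz ≫ pullback.snd φ ψ = 𝟙 V := pullback.lift_snd _ _ _
    have hΔ1 : Δ ≫ pr₁ = 𝟙 X := pullback.diagonal_fst φ
    have hΔ2 : Δ ≫ pr₂ = 𝟙 X := pullback.diagonal_snd φ
    have hzp : σz ≫ p = ψ₀ ≫ Δ := by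
      apply pullback.hom_ext
      · show (σz ≫ p) ≫ pr₁ = (ψ₀ ≫ Δ) ≫ pr₁
        rw [Category.assoc, hp1, hz1, Category.assoc, hΔ1, Category.comp_id]
      · show (σz ≫ p) ≫ pr₂ = (ψ₀ ≫ Δ) ≫ pr₂
        rw [Category.assoc, hp2, ← Category.assoc, hz2, Category.id_comp, Category.assoc, hΔ2, Category.comp_id]
    let σ : Fin (k + 1) → (V ⟶ pullback φ ψ) := Fin.cases σz fun i => σ₀ i ≫ h
    haveI : Etale ψ₀ := h2
    refine ⟨V, ψ, σ, inferInstance, inferInstance, fun s => (finrank_comp_const ψ₀ φ k.factorial (k + 1) h3 hn s).trans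
      (Nat.factorial_succ k).symm, inferInstance, fun i => ?_, ?_, fun z => ?_⟩
    · refine Fin.cases ?_ (fun i => ?_) i
      · exact hz2
      · show (σ₀ i ≫ h) ≫ pullback.snd φ ψ = 𝟙 V
        rw [Category.assoc, hh2, hs i]
    · have hne : ∀ (i : Fin k) a b, σz a ≠ (σ₀ i ≫ h) b := fun i a b e => by
        have h1 := congrArg p e
        rw [← Scheme.Hom.comp_apply, ← Scheme.Hom.comp_apply, hzp, Category.assoc, hp, ← Category.assoc,
          Scheme.Hom.comp_apply, Scheme.Hom.comp_apply] at h1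
        exact (((σ₀ i ≫ pullback.fst φU ψ₀) b).2 : _ ∈ (Set.range Δ)ᶜ) ⟨ψ₀ a, h1⟩
      intro i
      refine Fin.cases ?_ (fun i => ?_) i <;> intro j <;> refine Fin.cases ?_ (fun j => ?_) j <;> intro a b e
      · rfl
      · exact absurd e (hne j a b)
      · exact absurd e.symm (hne i b a)
      · simp only [σ, Fin.cases_succ, Scheme.Hom.comp_apply] at e
        rw [hd i j a b (hinj e)]
    · by_cases hz : p z ∈ Set.range Δ
      · have hmem : z ∈ Set.range (pullback.snd Δ p) := by rw [Scheme.Pullback.range_snd]; exact hz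
        obtain ⟨w, rfl⟩ := hmem
        have e1 : pullback.snd Δ p ≫ pullback.fst φ ψ = pullback.fst Δ p := by
          rw [← hp1, ← pullback.condition_assoc, hΔ1, Category.comp_id]
        have e2 : pullback.snd Δ p ≫ pullback.snd φ ψ ≫ ψ₀ = pullback.fst Δ p := by
          rw [← hp2, ← pullback.condition_assoc, hΔ2, Category.comp_id]
        have e : pullback.snd Δ p = (pullback.snd Δ p ≫ pullback.snd φ ψ) ≫ σz := by
          apply pullback.hom_ext
          · rw [Category.assoc, hz1, Category.assoc, e1, e2]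
          · rw [Category.assoc, hz2, Category.comp_id]
        exact ⟨0, (pullback.snd Δ p ≫ pullback.snd φ ψ) w, by
          rw [← Scheme.Hom.comp_apply]
          simp only [σ, Fin.cases_zero]
          rw [← e]⟩
      · have hmem : z ∈ Set.range (pullback.snd U.ι p) := by
          rw [Scheme.Pullback.range_snd, Scheme.Opens.range_ι]; exact hz
        obtain ⟨w, rfl⟩ := hmem
        obtain ⟨i, v, hv⟩ := hc (k₁ w)
        refine ⟨i.succ, v, ?_⟩
        simp only [σ, Fin.cases_succ, Scheme.Hom.comp_apply]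
        rw [hv, ← Scheme.Hom.comp_apply, hk]

end SplitDeg
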